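import Groth.Agent.MonoFibre.AntiAffineBasic
import Groth.Agent.MonoFibre.AntiAffine
import Groth.Agent.SchDenseLib.Basic
import Groth.Agent.GrpQuotLib.KerGrp
import Groth.Agent.ASp.PropDescend

/-!
# Minimal anti-affine groups and simple abelian varieties
-/

set_option autoImplicit false
set_option backward.isDefEq.respectTransparency false
set_option linter.unusedSectionVars false

universe u

open CategoryTheory CategoryTheory.Limits MonoidalCategory CartesianMonoidalCategory MonObj GrpObj AlgebraicGeometry

noncomputable section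

namespace Groth.Agent.AntiAffMin

open MonoFibre MonoFibre.AntiAffinePart MonoFibre.AntiAffineApps

variable {k : Type u} [Field k]

theorem id_eq_one_of_trivial {M : Over (Spec (CommRingCat.of k))} [GrpObj M] (h : Red.IsTrivialGrp M) : 𝟙 M = 1 := by
  haveI : IsIso M.hom := h
  haveI : IsIso (toUnit M) := by
    haveI : IsIso (toUnit M).left := inferInstanceAs (IsIso M.hom)
    haveI : IsIso ((Over.forget (Spec (CommRingCat.of k))).map (toUnit M)) := inferInstanceAs (IsIso (toUnit M).left)
    exact isIso_of_reflects_iso (toUnit M) (Over.forget _)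
  rw [← cancel_mono (toUnit M)]
  exact toUnit_unique _ _

theorem isIso_hom_of_surjective_unit {B : Over (Spec (CommRingCat.of k))} [GrpObj B] [IsReduced B.left]
    [LocallyOfFiniteType B.hom] [Surjective η[B].left] : IsIso B.hom := by
  haveI : IsClosedImmersion η[B].left := GrpSchLib.isClosedImmersion_unit
  haveI : IsIso η[B].left := isIso_of_isClosedImmersion_of_surjective η[B].left
  haveI : IsIso (η[B].left ≫ B.hom) := by rw [Over.w]; exact inferInstanceAs (IsIso (𝟙 _))
  exact IsIso.of_isIso_comp_left η[B].left B.hom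

variable {G N A : Over (Spec (CommRingCat.of k))} [GrpObj G] [GrpObj N] [GrpObj A] [LocallyOfFiniteType G.hom]
  [QuasiCompact G.hom] (i : N ⟶ G) [IsMonHom i] [IsClosedImmersion i.left] [IsAffine N.left]
  (q : G ⟶ A) [IsMonHom q] [Surjective q.left] [IsProper A.hom] [Smooth A.hom] [ConnectedSpace ↥A.left]

omit [QuasiCompact G.hom] in
theorem preimage_subgroup {B : Over (Spec (CommRingCat.of k))} [GrpObj B] (b : B ⟶ A) [IsMonHom b]
    [IsClosedImmersion b.left] :
    ∃ (P : Over (Spec (CommRingCat.of k))) (_ : GrpObj P) (iP : P ⟶ G) (p : P ⟶ B), IsMonHom iP ∧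
      IsClosedImmersion iP.left ∧ IsMonHom p ∧ iP ≫ q = p ≫ b ∧ Surjective p.left := by
  haveI : Mono b := Over.mono_of_mono_left b
  let P := Limits.pullback q b
  let iP : P ⟶ G := Limits.pullback.fst q b
  let p : P ⟶ B := Limits.pullback.snd q b
  have hc : iP ≫ q = p ≫ b := Limits.pullback.condition
  have sq := GrpQuotLib.isPullback_left (IsPullback.of_hasPullback q b)
  haveI : IsClosedImmersion iP.left := MorphismProperty.of_isPullback sq.flip ‹IsClosedImmersion b.left›
  haveI : Surjective p.left := MorphismProperty.of_isPullback sq ‹Surjective q.left›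
  obtain ⟨hP, hiP⟩ := SchemeImage.exists_grpObj iP
    ⟨Limits.pullback.lift η[G] η[B] (by rw [IsMonHom.one_hom q, IsMonHom.one_hom b]), Limits.pullback.lift_fst _ _ _⟩
    (fun T x y => ⟨Limits.pullback.lift ((x ≫ iP)⁻¹ * (y ≫ iP)) ((x ≫ p)⁻¹ * (y ≫ p)) (by
      simp only [MonObj.mul_comp, GrpObj.inv_comp, Category.assoc, hc]), Limits.pullback.lift_fst _ _ _⟩)
  letI := hP
  haveI := hiP
  refine ⟨P, hP, iP, p, hiP, inferInstance, ⟨(cancel_mono b).1 ?_, (cancel_mono b).1 ?_⟩, hc, inferInstance⟩
  · rw [Category.assoc, ← hc, ← Category.assoc, IsMonHom.one_hom iP, IsMonHom.one_hom q, IsMonHom.one_hom b]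
  · rw [Category.assoc, ← hc, ← Category.assoc, IsMonHom.mul_hom iP, Category.assoc, IsMonHom.mul_hom q,
      tensorHom_comp_tensorHom_assoc, hc, Category.assoc, IsMonHom.mul_hom b, tensorHom_comp_tensorHom_assoc]

theorem main (hGa : Function.Bijective ((Scheme.ΓSpecIso (CommRingCat.of k)).inv ≫ G.hom.appTop).hom)
    (hq : AlgGrp.IsKernel i q) :
    (∀ (H : Over (Spec (CommRingCat.of k))) [GrpObj H] (h : H ⟶ G) [IsMonHom h] [IsClosedImmersion h.left], ¬ IsIso h →
      Function.Bijective ((Scheme.ΓSpecIso (CommRingCat.of k)).inv ≫ H.hom.appTop).hom → Red.IsTrivialGrp H) ↔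
    (∀ (B : Over (Spec (CommRingCat.of k))) [GrpObj B] (b : B ⟶ A) [IsMonHom b] [IsClosedImmersion b.left],
      Smooth B.hom → ConnectedSpace ↥B.left → IsIso b ∨ Red.IsTrivialGrp B) := by
  haveI : ConnectedSpace G.left := MonoFibre.AntiAffine.connectedSpace hGa
  haveI : IsReduced A.left := ASp.isReduced_of_smooth A.hom
  constructor
  · intro hmin B _ b _ _ hBs hBc
    haveI := hBs; haveI := hBc
    haveI : IsProper B.hom := by rw [← Over.w b]; infer_instance
    obtain ⟨P, hP, iP, p, hiP, hiPc, hp, hc, hps⟩ := preimage_subgroup q b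
    letI := hP
    haveI := hiP; haveI := hiPc; haveI := hp; haveI := hps
    haveI : LocallyOfFiniteType P.hom := by rw [← Over.w iP]; infer_instance
    haveI : QuasiCompact P.hom := by rw [← Over.w iP]; infer_instance
    obtain ⟨hA₀, M, hM, iM, ht, -, -, -, hiM, hcM, hlM, hqM, hker, hO⟩ := KerAntiAffine.exists_antiAffineKernel P
    letI := hA₀; letI := hM
    haveI := ht; haveI := hiM; haveI := hlM; haveI := hqM; haveI := hcM
    haveI := surjective_of_isProper iM hker hO p
    haveI : IsClosedImmersion (iM ≫ iP).left := by rw [Over.comp_left]; infer_instance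
    by_cases hiso : IsIso (iM ≫ iP)
    · left
      haveI := hiso
      haveI : IsIso (iM ≫ iP).left := inferInstanceAs (IsIso ((Over.forget _).map (iM ≫ iP)))
      haveI : Surjective b.left := ⟨fun y => by
        obtain ⟨x, hx⟩ := q.left.surjective y
        obtain ⟨m, hm⟩ := (iM ≫ iP).left.surjective x
        refine ⟨(iM ≫ p).left m, ?_⟩
        rw [← Scheme.Hom.comp_apply, ← Over.comp_left, Category.assoc, ← hc, ← Category.assoc, Over.comp_left,
          Scheme.Hom.comp_apply, hm, hx]⟩
      haveI : IsIso b.left := isIso_of_isClosedImmersion_of_surjective b.left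
      haveI : IsIso ((Over.forget (Spec (CommRingCat.of k))).map b) := inferInstanceAs (IsIso b.left)
      exact isIso_of_reflects_iso b (Over.forget _)
    · right
      have hT := id_eq_one_of_trivial (hmin M (iM ≫ iP) hiso ((KerAntiAffine.bijective_iff M).mpr hO))
      haveI : IsReduced B.left := ASp.isReduced_of_smooth B.hom
      haveI : Surjective η[B].left := ⟨fun y => by
        obtain ⟨m, hm⟩ := (iM ≫ p).left.surjective y
        refine ⟨(toUnit M).left m, ?_⟩
        rw [← Scheme.Hom.comp_apply, ← Over.comp_left, ← Hom.one_def, ← MonObj.one_comp (iM ≫ p), ← hT,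
          Category.id_comp, hm]⟩
      exact isIso_hom_of_surjective_unit
  · intro hsimple H _ h _ _ hniso hH
    haveI : LocallyOfFiniteType H.hom := by rw [← Over.w h]; infer_instance
    haveI : QuasiCompact H.hom := by rw [← Over.w h]; infer_instance
    have hHO := (KerAntiAffine.bijective_iff H).mp hH
    haveI : Mono h := Over.mono_of_mono_left h
    haveI : Smooth H.hom := KerAntiAffine.smooth_of_isIso_appTop H hHO
    haveI : IsReduced H.left := ASp.isReduced_of_smooth H.hom
    haveI : QuasiCompact (h ≫ q).left := by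
      haveI : QuasiCompact ((h ≫ q).left ≫ A.hom) := by rw [Over.w]; infer_instance
      exact QuasiCompact.of_comp (h ≫ q).left A.hom
    obtain ⟨K, hK, ιK, g, hι, hιc, hg, hgι, hdom, hgq, hgs⟩ := exists_schemeImage (h ≫ q)
    letI := hK
    haveI := hι; haveI := hιc; haveI := hg; haveI := hdom; haveI := hgq; haveI := hgs
    haveI : LocallyOfFiniteType K.hom := by rw [← Over.w ιK]; infer_instance
    haveI : QuasiCompact K.hom := by rw [← Over.w ιK]; infer_instance
    haveI : Smooth K.hom := KerAntiAffine.smooth_of_isIso_appTop K (isIso_appTop_image g hHO)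
    haveI : ConnectedSpace H.left := MonoFibre.AntiAffine.connectedSpace hH
    haveI : ConnectedSpace K.left := g.left.surjective.connectedSpace g.left.continuous
    rcases hsimple K ιK inferInstance inferInstance with hi | htriv
    · exfalso
      haveI := hi
      haveI : IsIso ιK.left := inferInstanceAs (IsIso ((Over.forget _).map ιK))
      haveI : Surjective (h ≫ q).left := by rw [← hgι, Over.comp_left]; infer_instance
      haveI : IsClosedImmersion (𝟙 G : G ⟶ G).left := by rw [Over.id_left]; infer_instance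
      obtain ⟨-, hsm⟩ := mul_part_surjective_and_smallest N i A q hq G (𝟙 G) hGa
        (fun M₁ _ _ _ j₁ _ _ _ => ⟨j₁, Category.comp_id _⟩)
      obtain ⟨r, hr⟩ := hsm H h ⟨fun x => by
        obtain ⟨T, a, m, t, ht, he⟩ := GrpSchLib.exists_lift q (h ≫ q) x ((h ≫ q).left.surjective _)
        obtain ⟨n, hn⟩ := exists_of_isKernel hq ((m ≫ h)⁻¹ * a) (by
          rw [MonObj.mul_comp, GrpObj.inv_comp, Category.assoc, he, inv_mul_cancel])
        refine ⟨(lift m n).left t, ?_⟩
        rw [← Scheme.Hom.comp_apply, ← Over.comp_left, ← Category.assoc, lift_map, ← Hom.mul_def, hn,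
          mul_inv_cancel_left, ht]⟩
      exact hniso ⟨⟨r, by rw [← cancel_mono h, Category.assoc, hr, Category.comp_id, Category.id_comp], hr⟩⟩
    · have h1 : h ≫ q = 1 := by
        rw [← hgι, ← Category.comp_id g, id_eq_one_of_trivial htriv, MonObj.comp_one, MonObj.one_comp]
      obtain ⟨z, hz⟩ := exists_of_isKernel hq h h1
      haveI : Mono i := Over.mono_of_mono_left i
      haveI : IsMonHom z := ⟨(cancel_mono i).1 (by rw [Category.assoc, hz, IsMonHom.one_hom, IsMonHom.one_hom i]),
        (cancel_mono i).1 (by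
          rw [Category.assoc, hz, IsMonHom.mul_hom h, Category.assoc, IsMonHom.mul_hom i, tensorHom_comp_tensorHom_assoc, hz])⟩
      have h2 : h = 1 := by rw [← hz, eq_one_of_antiAffine hHO z, MonObj.one_comp]
      have h3 : 𝟙 H = 1 := (cancel_mono h).1 (by rw [Category.id_comp, MonObj.one_comp, h2])
      haveI : Surjective η[H].left := ⟨fun y => ⟨(toUnit H).left y, by
        rw [← Scheme.Hom.comp_apply, ← Over.comp_left, ← Hom.one_def, ← h3]; rfl⟩⟩
      exact isIso_hom_of_surjective_unit

end Groth.Agent.AntiAffMin
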