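import Groth.Agent.AntiAffMin.Basic
import Groth.Agent.GenSubLib.BoundedK
import Groth.Agent.GenSubLib.Apps
import Groth.Agent.MonoFibre.RigidityProper
import Groth.Agent.ASp.ZeroDim

/-!
# Complete subvarieties of minimal anti-affine groups
-/

set_option autoImplicit false
set_option backward.isDefEq.respectTransparency false
set_option linter.unusedSectionVars false

universe u

open CategoryTheory CategoryTheory.Limits MonoidalCategory CartesianMonoidalCategory MonObj GrpObj AlgebraicGeometry

noncomputable section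

namespace Groth.Agent.AntiAffMin

open GenSubLib

variable {k : Type u} [Field k]

theorem geometricallyConnected_of_irreducible {X : Scheme.{u}} (f : X ⟶ Spec (CommRingCat.of k))
    [GeometricallyIrreducible f] : GeometricallyConnected f := by
  refine ⟨fun K _ y P p q h => ?_⟩
  haveI : IrreducibleSpace P := GeometricallyIrreducible.geometrically_irreducibleSpace (f := f) y p q h
  infer_instance

theorem mono_of_cover_eq (Z : Over (Spec (CommRingCat.of k))) (h : fst Z Z = snd Z Z) : Mono Z.hom := by
  have h' : pullback.fst Z.hom Z.hom = pullback.snd Z.hom Z.hom := congrArg CommaMorphism.left h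
  exact ⟨fun a b e => by
    exact ((pullback.lift_fst a b e).symm.trans (congrArg (pullback.lift a b e ≫ ·) h')).trans (pullback.lift_snd a b e)⟩

theorem exists_word_of_list {G : Over (Spec (CommRingCat.of k))} [GrpObj G] {X : Over (Spec (CommRingCat.of k))}
    (f : X ⟶ G) {T : Over (Spec (CommRingCat.of k))} (l : List (T ⟶ X)) : ∀ n, l.length = n →
    ∃ r : T ⟶ src (fun _ : PUnit.{1} => X) (List.replicate n (PUnit.unit, true)),
      r ≫ word (fun _ => f) (List.replicate n (PUnit.unit, true)) = (l.map (· ≫ f)).prod := by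
  induction l with
  | nil =>
    rintro _ rfl
    exact ⟨toUnit T, by rw [List.map_nil, List.prod_nil]; exact comp_word_nil (X := fun _ : PUnit.{1} => X) (fun _ => f) (toUnit T)⟩
  | cons x l ih =>
    rintro _ rfl
    obtain ⟨r, hr⟩ := ih l.length rfl
    refine ⟨lift x r, ?_⟩
    rw [List.map_cons, List.prod_cons, ← hr]
    exact comp_word_cons (X := fun _ : PUnit.{1} => X) (fun _ => f) (PUnit.unit, true) (List.replicate l.length (PUnit.unit, true)) x r

theorem isProper_src (X : Over (Spec (CommRingCat.of k))) [IsProper X.hom] : ∀ l : List (PUnit.{1} × Bool),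
    IsProper (src (fun _ : PUnit.{1} => X) l).hom
  | [] => inferInstanceAs (IsProper (𝟙 (Spec (CommRingCat.of k))))
  | _ :: l => by
    haveI := isProper_src X l
    show IsProper (X ⊗ src (fun _ : PUnit.{1} => X) l).hom
    exact inferInstanceAs (IsProper (pullback.fst X.hom (src (fun _ : PUnit.{1} => X) l).hom ≫ X.hom))

theorem isProper_or_dim_zero {G : Over (Spec (CommRingCat.of k))} [GrpObj G] [LocallyOfFiniteType G.hom]
    (hmin : ∀ (H : Over (Spec (CommRingCat.of k))) [GrpObj H] (h : H ⟶ G) [IsMonHom h] [IsClosedImmersion h.left],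
      ¬ IsIso h → Function.Bijective ((Scheme.ΓSpecIso (CommRingCat.of k)).inv ≫ H.hom.appTop).hom → Red.IsTrivialGrp H)
    (hnp : ¬ IsProper G.hom)
    (Z : Over (Spec (CommRingCat.of k))) (z : Z ⟶ G) [IsClosedImmersion z.left] [IsProper Z.hom]
    [GeometricallyIntegral Z.hom] : topologicalKrullDim ↥Z.left = 0 := by
  haveI : IsIntegral Z.left := by
    haveI := GeometricallyIntegral.geometrically_isIntegral (f := Z.hom) (𝟙 (Spec (CommRingCat.of k))) (𝟙 Z.left) Z.hom
      (IsPullback.of_horiz_isIso ⟨by simp⟩)
    infer_instance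
  let X := Z ⊗ Z
  let f : X ⟶ G := (fst Z Z ≫ z)⁻¹ * (snd Z Z ≫ z)
  haveI : GeometricallyConnected Z.hom := geometricallyConnected_of_irreducible Z.hom
  haveI : GeometricallyReduced X.hom := geometricallyReduced_tensor Z Z
  haveI : GeometricallyConnected X.hom := geometricallyConnected_tensor Z Z
  haveI : IsProper X.hom := inferInstanceAs (IsProper (pullback.fst Z.hom Z.hom ≫ Z.hom))
  obtain ⟨Γ, hΓ, i, hi, hic, hred, -, -, hf, ⟨q, hq, -⟩, hgmin⟩ := exists_generated (X := fun _ : PUnit.{1} => X) (fun _ => f)
  letI := hΓ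
  haveI := hi; haveI := hic; haveI := hred
  haveI : Mono i := Over.mono_of_mono_left i
  -- the unit is a value
  let d : Z ⟶ X := lift (𝟙 Z) (𝟙 Z)
  have hd : d ≫ f = 1 := by simp [d, f, MonObj.comp_mul, GrpObj.comp_inv]
  obtain ⟨z₀⟩ : Nonempty Z.left := inferInstance
  obtain ⟨N, hN⟩ := bounded_of_min f ⟨d.left z₀, by
      refine ⟨(toUnit Z).left z₀, ?_⟩
      rw [← Scheme.Hom.comp_apply, ← Scheme.Hom.comp_apply, ← Over.comp_left, ← Over.comp_left, hd, Hom.one_def]⟩
    Γ i (hf PUnit.unit) (fun Γ' hΓ' i' hi' hic' h => hgmin Γ' hΓ' i' hi' hic' (fun _ => h))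
  -- one word covers the group
  let L : List (PUnit.{1} × Bool) := List.replicate N (PUnit.unit, true)
  haveI : Surjective (q L).left := ⟨fun y => by
    obtain ⟨T, p, x, ε, hx⟩ : i.left y ∈ {g : G.left | ∃ (T : Over (Spec (CommRingCat.of k))) (p : T.left)
        (x : Fin N → (T ⟶ X)) (ε : Fin N → Bool),
        ((List.ofFn fun j : Fin N => if ε j then x j ≫ f else (x j ≫ f)⁻¹).prod : T ⟶ G).left.base p = g} :=
      hN ▸ Set.mem_range_self y
    let x' : Fin N → (T ⟶ X) := fun j => if ε j then x j else x j ≫ lift (snd Z Z) (fst Z Z)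
    obtain ⟨r, hr⟩ := exists_word_of_list f (List.ofFn x') N List.length_ofFn
    have hfn : (List.ofFn x').map (· ≫ f) = List.ofFn fun j : Fin N => if ε j then x j ≫ f else (x j ≫ f)⁻¹ := by
      rw [List.map_ofFn]
      congr 1
      funext j
      simp only [x', Function.comp_apply]
      split
      · rfl
      · simp [f, MonObj.comp_mul, GrpObj.comp_inv]
    refine ⟨r.left p, i.left.isClosedEmbedding.injective ?_⟩
    rw [← hx, ← hfn, ← hr]
    show ((q L).left ≫ i.left) (r.left p) = _
    rw [← Over.comp_left, hq]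
    rfl⟩
  haveI := isProper_src X L
  haveI : LocallyOfFiniteType Γ.hom := by rw [← Over.w i]; infer_instance
  haveI : IsSeparated G.hom := GrpSchLib.isSeparated_hom
  haveI : IsSeparated Γ.hom := by rw [← Over.w i]; infer_instance
  haveI : UniversallyClosed Γ.hom := by
    haveI : UniversallyClosed ((q L).left ≫ Γ.hom) := by rw [Over.w]; infer_instance
    exact UniversallyClosed.of_comp_surjective (q L).left Γ.hom
  haveI : IsProper Γ.hom := { }
  haveI : ConnectedSpace Γ.left := by
    haveI := connectedSpace_src (X := fun _ : PUnit.{1} => X) L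
    exact (q L).left.surjective.connectedSpace (q L).left.continuous
  haveI := GrpSchLib.irreducibleSpace_of_connectedSpace (G := Γ)
  haveI : IsIntegral Γ.left := isIntegral_of_irreducibleSpace_of_isReduced _
  have hbij := MonoFibre.Rigidity.bijective_of_ratPt η[Γ]
  have hniso : ¬ IsIso i := by
    intro h
    haveI : IsIso i.left := inferInstanceAs (IsIso ((Over.forget _).map i))
    exact hnp (by rw [← IsIso.inv_hom_id_assoc i.left G.hom, Over.w i]; infer_instance)
  have hone := id_eq_one_of_trivial (hmin Γ i hniso hbij)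
  obtain ⟨f', hf'⟩ := hf PUnit.unit
  have hf1 : f = 1 := by rw [← hf', ← Category.comp_id f', hone, MonObj.comp_one, MonObj.one_comp]
  haveI : Mono z := Over.mono_of_mono_left z
  have hfs : fst Z Z = snd Z Z := (cancel_mono z).1 (inv_mul_eq_one.1 hf1)
  haveI : Mono Z.hom := mono_of_cover_eq Z hfs
  haveI : IsClosedImmersion Z.hom := (IsClosedImmersion.iff_isProper_and_mono _).2 ⟨inferInstance, inferInstance⟩
  haveI : Subsingleton ↥Z.left := Z.hom.isClosedEmbedding.injective.subsingleton (α := Z.left)
  exact Groth.Agent.ASp.topologicalKrullDim_eq_zero_of_discrete Z.left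

end Groth.Agent.AntiAffMin
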